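import Mathlib.AlgebraicGeometry.Morphisms.Immersion
import Mathlib.AlgebraicGeometry.IdealSheaf.Functorial

/-!
# Reduced subschemes and lifting morphisms from reduced schemes
-/

universe u

open CategoryTheory AlgebraicGeometry TopologicalSpace

namespace Groth.Agent.RedSub

variable {X Y Z T : Scheme.{u}}

/-- A morphism from a reduced scheme into a closed set kills its vanishing ideal. -/
lemma vanishingIdeal_le_ker [IsReduced T] (h : T ⟶ X) (C : Closeds X)
    (hC : Set.range h ⊆ C) : Scheme.IdealSheafData.vanishingIdeal C ≤ h.ker := by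
  rw [← Scheme.IdealSheafData.map_bot, Scheme.IdealSheafData.le_map_iff_comap_le, le_bot_iff,
    ← Scheme.IdealSheafData.support_eq_top_iff]
  refine SetLike.coe_injective ?_
  rw [Scheme.IdealSheafData.support_comap]
  refine Set.eq_univ_of_forall fun t => ?_
  show h t ∈ (Scheme.IdealSheafData.vanishingIdeal C).support
  rw [← SetLike.mem_coe, Scheme.IdealSheafData.coe_support_vanishingIdeal]
  exact hC ⟨t, rfl⟩

/-- The kernel is contained in the vanishing ideal of the range. -/
lemma ker_le_vanishingIdeal (h : T ⟶ X) [QuasiCompact h] (C : Closeds X)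
    (hC : (C : Set X) ⊆ closure (Set.range h)) :
    h.ker ≤ Scheme.IdealSheafData.vanishingIdeal C := by
  rw [← Scheme.IdealSheafData.le_support_iff_le_vanishingIdeal, ← SetLike.coe_subset_coe,
    Scheme.Hom.support_ker]
  exact hC

lemma isReduced_subscheme (I : X.IdealSheafData) (h : ∀ U, (I.ideal U).IsRadical) :
    IsReduced I.subscheme := by
  have : ∀ U, IsReduced (I.subschemeCover.openCover.X U) := fun U => by
    have : _root_.IsReduced (Γ(X, U.1) ⧸ I.ideal U) :=
      (Ideal.isRadical_iff_quotient_reduced _).1 (h U)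
    show IsReduced (Spec (CommRingCat.of (Γ(X, U.1) ⧸ I.ideal U)))
    infer_instance
  exact IsReduced.of_openCover I.subscheme I.subschemeCover.openCover

instance isReduced_vanishingIdeal (C : Closeds X) :
    IsReduced (Scheme.IdealSheafData.vanishingIdeal C).subscheme :=
  isReduced_subscheme _ fun U => by
    rw [Scheme.IdealSheafData.vanishingIdeal_ideal]
    exact PrimeSpectrum.isRadical_vanishingIdeal _

lemma range_vanishingIdeal_subschemeι (C : Closeds X) :
    Set.range (Scheme.IdealSheafData.vanishingIdeal C).subschemeι = C := by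
  rw [Scheme.IdealSheafData.range_subschemeι, Scheme.IdealSheafData.coe_support_vanishingIdeal]

/-- The ideal of a reduced closed subscheme is the vanishing ideal of its range. -/
lemma ker_eq_vanishingIdeal [IsReduced T] (i : T ⟶ X) [IsClosedImmersion i] (C : Closeds X)
    (hC : Set.range i = C) : i.ker = Scheme.IdealSheafData.vanishingIdeal C :=
  le_antisymm (ker_le_vanishingIdeal i C (hC ▸ subset_closure)) (vanishingIdeal_le_ker i C hC.le)

/-- A morphism from a reduced scheme with range in a closed subscheme factors through it. -/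
lemma exists_lift_closed [IsReduced T] (j : Z ⟶ X) [IsClosedImmersion j] (f : T ⟶ X)
    (h : Set.range f ⊆ Set.range j) : ∃ g : T ⟶ Z, g ≫ j = f :=
  let C : Closeds X := ⟨Set.range j, j.isClosedEmbedding.isClosed_range⟩
  ⟨IsClosedImmersion.lift j f ((ker_le_vanishingIdeal j C subset_closure).trans
    (vanishingIdeal_le_ker f C h)), IsClosedImmersion.lift_fac _ _ _⟩

/-- A morphism from a reduced scheme with range in an immersed subscheme factors through it. -/
lemma exists_lift [IsReduced T] (j : Z ⟶ X) [IsImmersion j] (f : T ⟶ X)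
    (h : Set.range f ⊆ Set.range j) : ∃ g : T ⟶ Z, g ≫ j = f := by
  have hr : Set.range f ⊆ Set.range j.coborderRange.ι := by
    rw [Scheme.Opens.range_ι]
    exact h.trans subset_coborder
  obtain ⟨g, hg⟩ := exists_lift_closed j.liftCoborder
    (IsOpenImmersion.lift j.coborderRange.ι f hr) (by
      rintro _ ⟨t, rfl⟩
      obtain ⟨z, hz⟩ := h ⟨t, rfl⟩
      refine ⟨z, j.coborderRange.ι.isOpenEmbedding.injective ?_⟩
      rw [← Scheme.Hom.comp_apply, ← Scheme.Hom.comp_apply, Scheme.Hom.liftCoborder_ι,
        IsOpenImmersion.lift_fac, hz])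
  exact ⟨g, by rw [← Scheme.Hom.liftCoborder_ι j, reassoc_of% hg, IsOpenImmersion.lift_fac]⟩

/-- An immersion with open range into a reduced scheme is an open immersion. -/
lemma isOpenImmersion_of_isOpen_range [IsReduced X] (j : Z ⟶ X) [IsImmersion j]
    (h : IsOpen (Set.range j)) : IsOpenImmersion j := by
  let U : X.Opens := ⟨Set.range j, h⟩
  have hr : Set.range j ⊆ Set.range U.ι := by rw [Scheme.Opens.range_ι]; rfl
  let j' := IsOpenImmersion.lift U.ι j hr
  have hj' : j' ≫ U.ι = j := IsOpenImmersion.lift_fac _ _ _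
  have : IsImmersion (j' ≫ U.ι) := hj' ▸ inferInstance
  have : IsImmersion j' := .of_comp j' U.ι
  have hs : Function.Surjective j' := by
    rintro ⟨x, z, rfl⟩
    exact ⟨z, Subtype.ext (congr($hj' z))⟩
  have : Surjective j' := ⟨hs⟩
  have : IsClosedImmersion j' := by
    rw [IsClosedImmersion.iff_isPreimmersion]
    exact ⟨inferInstance, by rw [hs.range_eq]; exact isClosed_univ⟩
  have : IsIso j' := isIso_of_isClosedImmersion_of_surjective j'
  rw [← hj']
  infer_instance

/-- Two reduced subschemes with the same range are isomorphic. -/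
lemma exists_iso [IsReduced Y] [IsReduced Z] (i : Y ⟶ X) (j : Z ⟶ X) [IsImmersion i] [IsImmersion j]
    (h : Set.range i = Set.range j) : ∃ e : Y ≅ Z, e.hom ≫ j = i := by
  obtain ⟨a, ha⟩ := exists_lift j i h.le
  obtain ⟨b, hb⟩ := exists_lift i j h.ge
  exact ⟨⟨a, b, by rw [← cancel_mono i, Category.assoc, hb, ha, Category.id_comp],
    by rw [← cancel_mono j, Category.assoc, ha, hb, Category.id_comp]⟩, ha⟩

end Groth.Agent.RedSub
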